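import Cfsg.Agent.H4.J1.Rep
import Cfsg.Agent.H4.J1.C1.Main
import Cfsg.Agent.H4.J1.C2.Main

set_option autoImplicit false
set_option maxRecDepth 100000
set_option Elab.async false

namespace Cfsg.H4.J1

open Cfsg.H6

theorem cover : Cover (gen ev Ws) ⊤ 1463 := hX ▸ C1.cover hev hR

theorem ub : UB (⊤ : Subgroup Grp) 175560 :=
  (UB.bot.cover (C2.cover hev hR)).cover cover

def I : List Ivl := [(1, 13, [6,4,7]), (13, 28, [6]), (28, 43, [7]), (43, 63, [7,4,6]), (63, 83, [7,2,4,6]), (83, 143, [6,4,6]), (143, 203, [7,4,7]), (203, 263, [6,1,4,6]), (263, 323, [6,1,4,7]), (323, 383, [6,2,4,6]), (383, 443, [6,2,4,7]), (443, 503, [7,1,4,6]), (503, 563, [7,1,4,7]), (563, 623, [7,2,4,7]), (623, 743, [6,4,6,4,6]), (743, 863, [6,4,3,6,4,6]), (863, 983, [6,4,6,1,4,6]), (983, 1103, [6,4,6,6,4,6]), (1103, 1223, [7,4,6,6,4,6]), (1223, 1343, [6,1,4,3,6,4,6]), (1343, 1463, [7,1,4,3,6,4,6])]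

theorem act : ∃ φ : Grp →* Equiv.Perm ℕ, IsAct φ ev img 1463 8 := by
  obtain ⟨ψ, hψ⟩ := lift rep.1 rep.2.1
  exact ⟨_, rep.2.2.comp ψ hψ⟩

/-- The permutation representation. -/
noncomputable def φ : Grp →* Equiv.Perm ℕ := act.choose

theorem hφ : IsAct φ ev img 1463 8 := act.choose_spec

theorem prim : Prim φ ev (gen ev Ws) 1463 I :=
  prim_sound hφ cover (List.forall_mem_cons.mpr ⟨iv0 hφ, (List.forall_mem_cons.mpr ⟨iv1 hφ, (List.forall_mem_cons.mpr ⟨iv2 hφ, (List.forall_mem_cons.mpr ⟨iv3 hφ, (List.forall_mem_cons.mpr ⟨iv4 hφ, (List.forall_mem_cons.mpr ⟨iv5 hφ, (List.forall_mem_cons.mpr ⟨iv6 hφ, (List.forall_mem_cons.mpr ⟨iv7 hφ, (List.forall_mem_cons.mpr ⟨iv8 hφ, (List.forall_mem_cons.mpr ⟨iv9 hφ, (List.forall_mem_cons.mpr ⟨iv10 hφ, (List.forall_mem_cons.mpr ⟨iv11 hφ, (List.forall_mem_cons.mpr ⟨iv12 hφ, (List.forall_mem_cons.mpr ⟨iv13 hφ, (List.forall_mem_cons.mpr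 ⟨iv14 hφ, (List.forall_mem_cons.mpr ⟨iv15 hφ, (List.forall_mem_cons.mpr ⟨iv16 hφ, (List.forall_mem_cons.mpr ⟨iv17 hφ, (List.forall_mem_cons.mpr ⟨iv18 hφ, (List.forall_mem_cons.mpr ⟨iv19 hφ, (List.forall_mem_cons.mpr ⟨iv20 hφ, (by simp)⟩)⟩)⟩)⟩)⟩)⟩)⟩)⟩)⟩)⟩)⟩)⟩)⟩)⟩)⟩)⟩)⟩)⟩)⟩)⟩)⟩) (by decide +kernel)

theorem coatom : IsCoatom (gen ev Ws) :=
  prim.isCoatom hφ hX (C := [[], [0,2,3,0,2,0], [0], [0,0,0,1], [0,4,0,1,1,2,1,4,0,1], [0,1,1,2,1,0,4,0,1], [0,0,1,2,0,0,3,1], [0,3,1,0,1,0,1], [0,0,3,1,0,0], [0,4,0,2,4,0], [0,1,0,2,0,1,1], [0,2,0,4,0], [0,3,2,4,0,3,0,3], [0,0,3,1,0], [0,3,1,0,3,1], [0,1,2,4,0,3], [0,0,0,0,3,0,1], [0,0,3,0,0,2,3], [0,1,2,0,3,1], [0,0,3,0,1], [0,0,2,3,2,4,0], [0,0,2,0,4,0]]) (by decide +kernel)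

def lW0 : List (List ℕ) := [[nat_lit 2, nat_lit 3, nat_lit 4]]

theorem l0 : lvlChk img 1463 8 [1,0] (2, lW0, unp 4 (nat_lit 0x800000006000000070000000200)) = true := by
  decide +kernel

def lW1 : List (List ℕ) := [[nat_lit 2, nat_lit 3, nat_lit 1, nat_lit 4, nat_lit 5, nat_lit 3, nat_lit 1]]

theorem l1 : lvlChk img 1463 8 [2,1,0] (3, lW1, unp 1 (nat_lit 0x300)) = true := by
  decide +kernel

theorem finite : Finite Grp := ub.top.1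

def bs : List ℕ := [3,2,1,0]

theorem lb : LBn φ ⊤ 1463 bs 175560 := by
  have := finite
  exact LBn.cast (((prim.lb2 (e := I.head (by decide)) (List.head_mem _)).stepT hφ l0).stepT hφ l1) (by decide +kernel)

theorem main : Nat.card Grp = 175560 ∧ fixS φ bs = ⊥ ∧ Oracle ev img 8 bs := by
  have := finite
  exact lb.oracle hφ ub.top.2

theorem normal (N : Subgroup Grp) [N.Normal] (hN : N ≠ ⊥) :
    ∀ t ∈ ([[1], [3], [4], [5], [6]] : List (List ℕ)), evL ev t ∈ N := by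
  have := finite
  exact prim.normal_contains hev coatom lb.2 main.2.1 main.2.2 (p := 7) (k := 1) (j := 1) (by norm_num)
    main.1 (x := [7,7]) (St := [([7,7], [], [4], 5, 2), ([4], [], [1], 2, 3), ([1], [], [3], 3, 2), ([1], [], [6], 3, 7), ([6], [], [5], 7, 2)]) (by decide +kernel) N hN

theorem simple : IsSimpleGroup Grp := by
  have := prim.nontrivial
  exact isSimple_of_contains hX normal

end Cfsg.H4.J1
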