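import Cfsg.Agent.H6.More2
import Cfsg.Agent.H4.J1.Main
import Cfsg.Prelude.Def_Spor_J1

set_option autoImplicit false
set_option maxRecDepth 100000
set_option Elab.async false

namespace Cfsg.H4.J1

open Cfsg.H6

open Matrix

def rows : List (List ℕ) := [[], [nat_lit 256, nat_lit 65536, nat_lit 16777216, nat_lit 4294967296, nat_lit 1099511627776, nat_lit 281474976710656, nat_lit 1], [nat_lit 281474976710656, nat_lit 1, nat_lit 256, nat_lit 65536, nat_lit 16777216, nat_lit 4294967296, nat_lit 1099511627776], [nat_lit 2262829458129416, nat_lit 847727810380041, nat_lit 571780574480906, nat_lit 2816983284975626, nat_lit 2825753608063496, nat_lit 845528887919361, nat_lit 284777823929091], [nat_lit 845558969927944, nat_lit 847766549561602, nat_lit 2536607853314314, nat_lit 291405075972874, nat_lit 282583213015304, nat_lit 845567425512202, nat_lit 284816629170952]]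

noncomputable def rw (x : ℕ) : ℕ → ℕ := nthN (nthW rows x)

def evJ : ℕ → GL (Fin 7) (ZMod 11) :=
  evM [1, Spor.jankoX, Spor.jankoX⁻¹, Spor.jankoY, Spor.jankoY⁻¹]

noncomputable def imgJ (x p : ℕ) : ℕ := pv 11 (rw x) p 7 7

theorem hμ : ∀ x, 1 ≤ x → x < 5 → Units.coeHom _ (evJ x) = matP 11 (Equiv.refl _) (rw x) := by
  intro x h1 h2
  interval_cases x <;> decide +kernel

theorem hact : MAct (fun x => matP 11 (Equiv.refl (Fin 7)) (rw x)) (decP 11 (Equiv.refl _)) imgJ 5 :=
  mact_pv (by norm_num) _ rw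

theorem oraJ : Oracle evJ imgJ 5 [1,256,65536,16777216,4294967296,1099511627776,281474976710656] :=
  hact.oracle Units.val_injective hμ (decP_basis 11 _) (by decide +kernel)

def sgJ : List (List ℕ) := [[], [1,3,1,3,3,2,3,1,3,1,3,1,1], [2,2,4,2,4,2,4,1,4,4,2,4,2], [3,1,3,1,4,4], [1,4,1,3,3,1,1], [3,2,3,2,4,4], [3,3,1,4,4], [3,3,2,4,4]]

theorem gen_eq : gen (evS evJ sgJ) X = Spor.J1 := by
  have h1 : Spor.jankoX ∈ Spor.J1 := Subgroup.subset_closure (by simp)
  have h2 : Spor.jankoY ∈ Spor.J1 := Subgroup.subset_closure (by simp)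
  have hg : Good (evS evJ sgJ) 434321403852947968 := oraJ.good_evS (by decide +kernel)
  have h3 : ∀ (w : List ℕ) (l : ℕ), fixB imgJ 5 [1,256,65536,16777216,4294967296,1099511627776,281474976710656] (subst sgJ w ++ [l]) = true →
      (evJ l)⁻¹ ∈ gen (evS evJ sgJ) X := fun w l h => by
    have h4 := oraJ _ h
    rw [evL_append, evL_singleton, ← evL_subst] at h4
    rw [← eq_inv_of_mul_eq_one_left h4]
    exact evL_mem_of_letters fun x _ => mem_gen_of_topChk hg (m := 8) (by decide +kernel) x
  refine le_antisymm (gen_le fun w _ => ?_) ((Subgroup.closure_le _).mpr ?_)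
  · rw [evL_subst]
    refine evL_mem_of_letters fun x _ => ?_
    rcases x with _ | _ | _ | _ | _ | x
    exacts [one_mem _, h1, inv_mem h1, h2, inv_mem h2, one_mem _]
  · rintro _ (rfl | rfl)
    · exact h3 [1,3,5,7,4,6,4,6,4,7,2] 2 (by decide +kernel)
    · exact h3 [1,3,4,3,6,1,4,7,7,3,4] 4 (by decide +kernel)

theorem iso : Nonempty (Grp ≃* Spor.J1) := by
  have := simple
  obtain ⟨ψ, hψ⟩ := lift (oraJ.good_evS (σ := sgJ) (by decide +kernel))
    (oraJ.rels_evS (by decide +kernel))
  have h := equiv_gen_of_simple ψ hψ hX (w := [6]) (by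
    rw [evL_subst]
    exact hact.ne hμ (w := []) (p := 1) (i := 0) (by decide +kernel) (by decide +kernel)
      (by decide +kernel))
  rwa [gen_eq] at h

end Cfsg.H4.J1
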