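import Cfsg.Agent.H4.J1.Tab0

set_option autoImplicit false
set_option maxRecDepth 100000
set_option Elab.async false

namespace Cfsg.H4.J1

open Cfsg.H6

theorem p0 : allR (ptU img) 0 1463 = true := by decide +kernel

theorem q0_0 : allR (ivl img Ws 1 13) 1 12 = true := by decide +kernel

theorem q1_0 : allR (ivl img Ws 13 28) 13 15 = true := by decide +kernel

theorem q2_0 : allR (ivl img Ws 28 43) 28 15 = true := by decide +kernel

theorem q3_0 : allR (ivl img Ws 43 63) 43 20 = true := by decide +kernel

theorem q4_0 : allR (ivl img Ws 63 83) 63 20 = true := by decide +kernel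

theorem q5_0 : allR (ivl img Ws 83 143) 83 60 = true := by decide +kernel

theorem q6_0 : allR (ivl img Ws 143 203) 143 60 = true := by decide +kernel

end Cfsg.H4.J1
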