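import Cfsg.Agent.H4.J1.Tab0

set_option autoImplicit false
set_option maxRecDepth 100000
set_option Elab.async false

namespace Cfsg.H4.J1

open Cfsg.H6

theorem q7_0 : allR (ivl img Ws 203 263) 203 60 = true := by decide +kernel

theorem q8_0 : allR (ivl img Ws 263 323) 263 60 = true := by decide +kernel

theorem q9_0 : allR (ivl img Ws 323 383) 323 60 = true := by decide +kernel

theorem q10_0 : allR (ivl img Ws 383 443) 383 60 = true := by decide +kernel

theorem q11_0 : allR (ivl img Ws 443 503) 443 60 = true := by decide +kernel

theorem q12_0 : allR (ivl img Ws 503 563) 503 60 = true := by decide +kernel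

theorem q13_0 : allR (ivl img Ws 563 623) 563 60 = true := by decide +kernel

theorem q14_0 : allR (ivl img Ws 623 743) 623 120 = true := by decide +kernel

end Cfsg.H4.J1
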