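import Cfsg.Agent.H4.J1.Tab0

set_option autoImplicit false
set_option maxRecDepth 100000
set_option Elab.async false

namespace Cfsg.H4.J1

open Cfsg.H6

theorem q15_0 : allR (ivl img Ws 743 863) 743 120 = true := by decide +kernel

theorem q16_0 : allR (ivl img Ws 863 983) 863 120 = true := by decide +kernel

theorem q17_0 : allR (ivl img Ws 983 1103) 983 120 = true := by decide +kernel

theorem q18_0 : allR (ivl img Ws 1103 1223) 1103 120 = true := by decide +kernel

theorem q19_0 : allR (ivl img Ws 1223 1343) 1223 120 = true := by decide +kernel

theorem q20_0 : allR (ivl img Ws 1343 1463) 1343 120 = true := by decide +kernel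

end Cfsg.H4.J1
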