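import Cfsg.Agent.H6.PG

set_option autoImplicit false
set_option maxRecDepth 100000
set_option Elab.async false

namespace Cfsg.H4.J1

open Cfsg.H6

def R : List (List ℕ) := [[3,4,7,2,3,4,6,4,3,7,4,3,1,6], [1,1,1], [1,3,1,3,1,3], [3,4,3,4,3,4], [1,4,1,4], [5,1,5,2], [5,3,5,3], [5,4,5,4], [6,6,6,6,6,6,6], [2,6,1,7,7], [7,5,6,3], [7,3,6,2,3,1], [7,2,3,1,6,5,3]]

def X : List (List ℕ) := [[1], [3], [4], [5], [6]]

/-- The presented group. -/
abbrev Grp : Type := PG 434321403852947968 R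

def ev : ℕ → Grp := pgEv 434321403852947968 R

theorem hev : Good ev 434321403852947968 := pg_good _ _

theorem hR : Rels ev R := pg_rels _ _

theorem hX : gen ev X = ⊤ := pg_gen (m := 8) (by decide +kernel)

theorem lift {G : Type*} [Group G] {ev' : ℕ → G} (h : Good ev' 434321403852947968) (h' : Rels ev' R) :
    ∃ φ : Grp →* G, ∀ l, φ (ev l) = ev' l := pg_lift h h'

end Cfsg.H4.J1
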