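import Cfsg.Agent.H4.J1.Pres
import Cfsg.Agent.H4.J1.Chk0
import Cfsg.Agent.H4.J1.Chk1
import Cfsg.Agent.H4.J1.Chk2

set_option autoImplicit false
set_option maxRecDepth 100000
set_option Elab.async false

namespace Cfsg.H4.J1

open Cfsg.H6

theorem ptOK : PtOK img 1463 LS EQS := ptOK_of_chk fun p h1 h2 => by
  rw [← ptU_eq]
  exact (allR_range p0 (by norm_num : 0 + 1463 = 1463)) p h1 h2

theorem hrep : repOK 8 434321403852947968 LS EQS D J1.R = true := by decide +kernel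

theorem rep : Good (evR img 1463 8) 434321403852947968 ∧ Rels (evR img 1463 8) J1.R ∧
    IsAct (MonoidHom.id _) (evR img 1463 8) img 1463 8 := rep_sound ptOK hrep

theorem iv0 {G : Type*} [Group G] {φ : G →* Equiv.Perm ℕ} {ev : ℕ → G} (h : IsAct φ ev img 1463 8) :
    orb φ (gen ev Ws) 1 = Set.Ico 1 13 :=
  ivl_sound h (by decide +kernel) (allR_range q0_0 (by norm_num : 1 + 12 = 13))

theorem iv1 {G : Type*} [Group G] {φ : G →* Equiv.Perm ℕ} {ev : ℕ → G} (h : IsAct φ ev img 1463 8) :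
    orb φ (gen ev Ws) 13 = Set.Ico 13 28 :=
  ivl_sound h (by decide +kernel) (allR_range q1_0 (by norm_num : 13 + 15 = 28))

theorem iv2 {G : Type*} [Group G] {φ : G →* Equiv.Perm ℕ} {ev : ℕ → G} (h : IsAct φ ev img 1463 8) :
    orb φ (gen ev Ws) 28 = Set.Ico 28 43 :=
  ivl_sound h (by decide +kernel) (allR_range q2_0 (by norm_num : 28 + 15 = 43))

theorem iv3 {G : Type*} [Group G] {φ : G →* Equiv.Perm ℕ} {ev : ℕ → G} (h : IsAct φ ev img 1463 8) :
    orb φ (gen ev Ws) 43 = Set.Ico 43 63 :=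
  ivl_sound h (by decide +kernel) (allR_range q3_0 (by norm_num : 43 + 20 = 63))

theorem iv4 {G : Type*} [Group G] {φ : G →* Equiv.Perm ℕ} {ev : ℕ → G} (h : IsAct φ ev img 1463 8) :
    orb φ (gen ev Ws) 63 = Set.Ico 63 83 :=
  ivl_sound h (by decide +kernel) (allR_range q4_0 (by norm_num : 63 + 20 = 83))

theorem iv5 {G : Type*} [Group G] {φ : G →* Equiv.Perm ℕ} {ev : ℕ → G} (h : IsAct φ ev img 1463 8) :
    orb φ (gen ev Ws) 83 = Set.Ico 83 143 :=
  ivl_sound h (by decide +kernel) (allR_range q5_0 (by norm_num : 83 + 60 = 143))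

theorem iv6 {G : Type*} [Group G] {φ : G →* Equiv.Perm ℕ} {ev : ℕ → G} (h : IsAct φ ev img 1463 8) :
    orb φ (gen ev Ws) 143 = Set.Ico 143 203 :=
  ivl_sound h (by decide +kernel) (allR_range q6_0 (by norm_num : 143 + 60 = 203))

theorem iv7 {G : Type*} [Group G] {φ : G →* Equiv.Perm ℕ} {ev : ℕ → G} (h : IsAct φ ev img 1463 8) :
    orb φ (gen ev Ws) 203 = Set.Ico 203 263 :=
  ivl_sound h (by decide +kernel) (allR_range q7_0 (by norm_num : 203 + 60 = 263))

theorem iv8 {G : Type*} [Group G] {φ : G →* Equiv.Perm ℕ} {ev : ℕ → G} (h : IsAct φ ev img 1463 8) :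
    orb φ (gen ev Ws) 263 = Set.Ico 263 323 :=
  ivl_sound h (by decide +kernel) (allR_range q8_0 (by norm_num : 263 + 60 = 323))

theorem iv9 {G : Type*} [Group G] {φ : G →* Equiv.Perm ℕ} {ev : ℕ → G} (h : IsAct φ ev img 1463 8) :
    orb φ (gen ev Ws) 323 = Set.Ico 323 383 :=
  ivl_sound h (by decide +kernel) (allR_range q9_0 (by norm_num : 323 + 60 = 383))

theorem iv10 {G : Type*} [Group G] {φ : G →* Equiv.Perm ℕ} {ev : ℕ → G} (h : IsAct φ ev img 1463 8) :
    orb φ (gen ev Ws) 383 = Set.Ico 383 443 :=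
  ivl_sound h (by decide +kernel) (allR_range q10_0 (by norm_num : 383 + 60 = 443))

theorem iv11 {G : Type*} [Group G] {φ : G →* Equiv.Perm ℕ} {ev : ℕ → G} (h : IsAct φ ev img 1463 8) :
    orb φ (gen ev Ws) 443 = Set.Ico 443 503 :=
  ivl_sound h (by decide +kernel) (allR_range q11_0 (by norm_num : 443 + 60 = 503))

theorem iv12 {G : Type*} [Group G] {φ : G →* Equiv.Perm ℕ} {ev : ℕ → G} (h : IsAct φ ev img 1463 8) :
    orb φ (gen ev Ws) 503 = Set.Ico 503 563 :=
  ivl_sound h (by decide +kernel) (allR_range q12_0 (by norm_num : 503 + 60 = 563))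

theorem iv13 {G : Type*} [Group G] {φ : G →* Equiv.Perm ℕ} {ev : ℕ → G} (h : IsAct φ ev img 1463 8) :
    orb φ (gen ev Ws) 563 = Set.Ico 563 623 :=
  ivl_sound h (by decide +kernel) (allR_range q13_0 (by norm_num : 563 + 60 = 623))

theorem iv14 {G : Type*} [Group G] {φ : G →* Equiv.Perm ℕ} {ev : ℕ → G} (h : IsAct φ ev img 1463 8) :
    orb φ (gen ev Ws) 623 = Set.Ico 623 743 :=
  ivl_sound h (by decide +kernel) (allR_range q14_0 (by norm_num : 623 + 120 = 743))

theorem iv15 {G : Type*} [Group G] {φ : G →* Equiv.Perm ℕ} {ev : ℕ → G} (h : IsAct φ ev img 1463 8) :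
    orb φ (gen ev Ws) 743 = Set.Ico 743 863 :=
  ivl_sound h (by decide +kernel) (allR_range q15_0 (by norm_num : 743 + 120 = 863))

theorem iv16 {G : Type*} [Group G] {φ : G →* Equiv.Perm ℕ} {ev : ℕ → G} (h : IsAct φ ev img 1463 8) :
    orb φ (gen ev Ws) 863 = Set.Ico 863 983 :=
  ivl_sound h (by decide +kernel) (allR_range q16_0 (by norm_num : 863 + 120 = 983))

theorem iv17 {G : Type*} [Group G] {φ : G →* Equiv.Perm ℕ} {ev : ℕ → G} (h : IsAct φ ev img 1463 8) :
    orb φ (gen ev Ws) 983 = Set.Ico 983 1103 :=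
  ivl_sound h (by decide +kernel) (allR_range q17_0 (by norm_num : 983 + 120 = 1103))

theorem iv18 {G : Type*} [Group G] {φ : G →* Equiv.Perm ℕ} {ev : ℕ → G} (h : IsAct φ ev img 1463 8) :
    orb φ (gen ev Ws) 1103 = Set.Ico 1103 1223 :=
  ivl_sound h (by decide +kernel) (allR_range q18_0 (by norm_num : 1103 + 120 = 1223))

theorem iv19 {G : Type*} [Group G] {φ : G →* Equiv.Perm ℕ} {ev : ℕ → G} (h : IsAct φ ev img 1463 8) :
    orb φ (gen ev Ws) 1223 = Set.Ico 1223 1343 :=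
  ivl_sound h (by decide +kernel) (allR_range q19_0 (by norm_num : 1223 + 120 = 1343))

theorem iv20 {G : Type*} [Group G] {φ : G →* Equiv.Perm ℕ} {ev : ℕ → G} (h : IsAct φ ev img 1463 8) :
    orb φ (gen ev Ws) 1343 = Set.Ico 1343 1463 :=
  ivl_sound h (by decide +kernel) (allR_range q20_0 (by norm_num : 1343 + 120 = 1463))


end Cfsg.H4.J1
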